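/-
Abstract facts on a group like `PSL_2(q)`, `q ≡ ±3 (mod 8)` (owner: helper44).

* `FourData.of_equiv`    : transport
* `FourData.no_inverted` : no non-trivial subgroup of odd order is inverted by an involution and
  normalised by its centraliser
-/
import Cfsg.Agent.Lib.PSL2.KleinCentre
import Cfsg.Agent.Lib.Bender.Setup

set_option autoImplicit false
set_option linter.unusedSectionVars false

namespace Cfsg.Agent.PSL2

open Involution

variable {K : Type*} [Group K]

theorem isKleinFour_map {L : Type*} [Group L] (e : K ≃* L) {V : Subgroup K} (hV : IsKleinFour V) :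
    IsKleinFour (V.map e.toMonoidHom) :=
  ⟨by rw [Subgroup.card_map_of_injective (show Function.Injective e.toMonoidHom from e.injective),
      hV.card_four],
    ((Monoid.exponent_eq_of_mulEquiv (e.subgroupMap V)).symm.trans hV.exponent_two)⟩

theorem FourData.of_equiv {L : Type*} [Group L] [Finite K] (D : FourData L) (e : K ≃* L) :
    FourData K := by
  haveI : Finite L := Finite.of_equiv K e.toEquiv
  refine ⟨fun P => ?_, fun x y hx hy => ?_, fun a x y ha hx hy => ?_, fun V hV x hx => ?_,
    fun V hV α hα hfix => ?_, ?_⟩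
  · have h := D.sylow (P.mapSurjective (f := e.toMonoidHom) e.surjective)
    erw [Sylow.coe_mapSurjective] at h
    have h' := isKleinFour_map e.symm h
    rwa [Subgroup.map_map, show e.symm.toMonoidHom.comp e.toMonoidHom = MonoidHom.id K from
      MonoidHom.ext fun x => e.symm_apply_apply x, Subgroup.map_id] at h'
  · have h := isConj_iff.1 (D.conj (e x) (e y) (by rw [MulEquiv.orderOf_eq, hx])
      (by rw [MulEquiv.orderOf_eq, hy]))
    obtain ⟨c, hc⟩ := h
    refine isConj_iff.2 ⟨e.symm c, e.injective ?_⟩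
    simp [hc]
  · have h := D.comm (e a) (e x) (e y) (by rwa [MulEquiv.orderOf_eq]) (hx.map e.toMonoidHom)
      (hy.map e.toMonoidHom)
    simpa using h.map e.symm.toMonoidHom
  · have h := D.cent _ (isKleinFour_map e hV) (e x) (by
      rintro _ ⟨v, hv, rfl⟩
      exact (hx v hv).map e.toMonoidHom)
    obtain ⟨v, hv, h'⟩ := h
    exact e.injective h' ▸ hv
  · obtain ⟨_, ⟨v, hv, rfl⟩, hα'⟩ := D.aut _ (isKleinFour_map e hV) (MulAut.congr e α) (by
      rcases hα with ⟨k, hk⟩ | h
      · exact Or.inl ⟨k, by rw [← map_pow, hk, map_one]⟩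
      · exact Or.inr (by rwa [← Nat.card_congr e.toEquiv])) (by
      rintro _ ⟨v, hv, rfl⟩
      show e (α (e.symm (e v))) = e v
      rw [e.symm_apply_apply, hfix v hv])
    refine ⟨v, hv, MulEquiv.ext fun x => e.injective ?_⟩
    have := DFunLike.congr_fun hα' (e x)
    simp only [MulAut.conj_apply] at this ⊢
    show e (α x) = _
    rw [map_mul, map_mul, map_inv]
    simpa [MulAut.congr] using this
  · rcases D.simple with h | ⟨h, hc⟩
    · exact Or.inl (by rw [Nat.card_congr e.toEquiv, h])
    · refine Or.inr ⟨e.isSimpleGroup, fun h' => hc fun a b => e.symm.injective ?_⟩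
      rw [map_mul, map_mul, h']

variable [Finite K]

theorem eq_one_of_sq {w : K} (ho : Odd (orderOf w)) (h : w * w = 1) : w = 1 := by
  by_contra hne
  rw [orderOf_of_sq h hne] at ho
  exact absurd ho (by decide)

theorem FourData.sq_eq_one (D : FourData K) {P : Sylow 2 K} {x : K} (hx : x ∈ (P : Subgroup K)) :
    x * x = 1 := by
  have := D.sylow P
  exact congrArg Subtype.val (IsKleinFour.mul_self (⟨x, hx⟩ : (P : Subgroup K)))

/-- What commutes with two commuting involutions is trivial or an involution. -/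
theorem FourData.sq_eq_one_of_commute (D : FourData K) {z z' a : K} (hz : orderOf z = 2)
    (hz' : orderOf z' = 2) (hne : z ≠ z') (hc : Commute z z') (h : Commute a z) (h' : Commute a z') :
    a * a = 1 := by
  haveI : Fact (Nat.Prime 2) := ⟨Nat.prime_two⟩
  obtain ⟨P, hP⟩ := (Bender.card_fourOf_dvd (mul_self hz) (mul_self hz') hc).exists_le_sylow
  have h1 := ne_one hz
  have h2 := ne_one hz'
  have h3 : z * z' ≠ 1 := fun e => hne (by rwa [mul_eq_one_iff_eq_inv, inv_eq hz'] at e)
  have h4 : z * z' ≠ z := fun e => h2 (mul_eq_left.1 e)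
  have h5 : z * z' ≠ z' := fun e => h1 (mul_eq_right.1 e)
  have hfour : ({1, z, z', z * z'} : Set K) = ((P : Subgroup K) : Set K) := by
    refine Set.eq_of_subset_of_ncard_le (fun g hg => hP hg) ?_ (Set.toFinite _)
    rw [Set.ncard_insert_of_notMem (by simp [h1.symm, h2.symm, h3.symm]),
      Set.ncard_insert_of_notMem (by simp [hne, h4.symm]), Set.ncard_pair h5.symm,
      ← Nat.card_coe_set_eq]
    exact ((D.sylow P).card_four).le
  refine D.sq_eq_one (P := P) (D.cent _ (D.sylow P) a fun v hv => ?_)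
  rw [← SetLike.mem_coe, ← hfour] at hv
  rcases hv with rfl | rfl | rfl | rfl
  exacts [Commute.one_right a, h, h', h.mul_right h']

/-- No odd subgroup `≠ 1` is inverted by an involution and normalised by its centraliser. -/
theorem FourData.no_inverted (D : FourData K) {W : Subgroup K} {x : K} (hx : orderOf x = 2)
    (hodd : ∀ w ∈ W, Odd (orderOf w)) (hinv : ∀ w ∈ W, x * w * x⁻¹ = w⁻¹)
    (hnorm : ∀ c : K, Commute c x → ∀ w ∈ W, c * w * c⁻¹ ∈ W) : W = ⊥ := by
  haveI : Fact (Nat.Prime 2) := ⟨Nat.prime_two⟩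
  refine (Subgroup.eq_bot_iff_forall W).2 fun w₀ hw₀ => ?_
  by_contra hw₀1
  have hab : ∀ a ∈ W, ∀ b ∈ W, Commute a b := fun a ha b hb => by
    have e := hinv _ (mul_mem ha hb)
    rw [conj_mul.symm, hinv a ha, hinv b hb, mul_inv_rev] at e
    exact Commute.inv_inv_iff.1 e
  obtain ⟨P, hxP⟩ := (IsPGroup.of_card (G := Subgroup.zpowers x) (p := 2) (n := 1)
    (by rw [Nat.card_zpowers, hx, pow_one])).exists_le_sylow
  have hxP' : x ∈ (P : Subgroup K) := hxP (Subgroup.mem_zpowers x)
  obtain ⟨y, hyP, hy1, hyx⟩ : ∃ y ∈ (P : Subgroup K), y ≠ 1 ∧ y ≠ x := by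
    by_contra! hall
    have hle : ((P : Subgroup K) : Set K) ⊆ {1, x} := fun z hz => by
      by_cases h1 : z = 1
      · exact Or.inl h1
      · exact Or.inr (hall z hz h1)
    have := Set.ncard_le_ncard hle (Set.toFinite _)
    rw [← Nat.card_coe_set_eq, Set.ncard_pair (ne_one hx).symm] at this
    change Nat.card (P : Subgroup K) ≤ 2 at this
    rw [(D.sylow P).card_four] at this
    omega
  have hPc : ∀ u ∈ (P : Subgroup K), ∀ v ∈ (P : Subgroup K), Commute u v := fun u hu v hv => by
    have h1 := D.sq_eq_one hu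
    have h2 := D.sq_eq_one hv
    have h3 := D.sq_eq_one (mul_mem hu hv)
    show u * v = v * u
    calc u * v = u * (u * v * (u * v)) * v := by rw [h3, mul_one]
      _ = (u * u) * (v * u) * (v * v) := by group
      _ = v * u := by rw [h1, h2, one_mul, mul_one]
  have hy : orderOf y = 2 := orderOf_of_sq (D.sq_eq_one hyP) hy1
  have hxy : orderOf (x * y) = 2 := orderOf_of_sq (D.sq_eq_one (mul_mem hxP' hyP))
    fun e => hyx (by rw [mul_eq_one_iff_eq_inv, inv_eq hy] at e; exact e.symm)
  -- some non-trivial element of `W` is fixed by an involution of `P` other than `x`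
  obtain ⟨z, a, haW, ha1, hz, hzP, hzx, haz⟩ : ∃ z a : K, a ∈ W ∧ a ≠ 1 ∧ orderOf z = 2 ∧
      z ∈ (P : Subgroup K) ∧ z ≠ x ∧ Commute a z := by
    have hwy := hnorm y (hPc y hyP x hxP') w₀ hw₀
    set w' := y * w₀ * y⁻¹ with hw'
    have hyw' : y * w' * y⁻¹ = w₀ := by
      rw [hw', inv_eq hy, ← mul_assoc, ← mul_assoc, mul_self hy, one_mul, mul_assoc, mul_self hy,
        mul_one]
    have hc : Commute w₀ w' := hab _ hw₀ _ hwy
    by_cases hu : w₀ * w' = 1
    · refine ⟨x * y, w₀, hw₀, hw₀1, hxy, mul_mem hxP' hyP, fun e => hy1 (mul_eq_left.1 e), ?_⟩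
      have e : x * y * w₀ * (x * y)⁻¹ = w₀ := by
        rw [mul_inv_rev, show x * y * w₀ * (y⁻¹ * x⁻¹) = x * w' * x⁻¹ by rw [hw']; group,
          hinv _ hwy, eq_comm, ← mul_eq_one_iff_eq_inv]
        exact hu
      exact (mul_inv_eq_iff_eq_mul.1 e).symm
    · refine ⟨y, w₀ * w', mul_mem hw₀ hwy, hu, hy, hyP, hyx, ?_⟩
      have e : y * (w₀ * w') * y⁻¹ = w₀ * w' := by rw [← conj_mul, hyw']; exact hc.eq.symm
      exact (mul_inv_eq_iff_eq_mul.1 e).symm
  have ha3 : 3 ≤ orderOf a := by
    have h1 : orderOf a ≠ 1 := fun e => ha1 (orderOf_eq_one_iff.1 e)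
    have h2 := hodd a haW
    rw [Nat.odd_iff] at h2
    omega
  -- the centraliser of `x` fixes `z`, so lies in `P`
  have hcz : ∀ c : K, Commute c x → Commute c z := by
    intro c hc
    by_contra hne
    have hz' : orderOf (c * z * c⁻¹) = 2 := (orderOf_conj c z).trans hz
    have h1 : Commute a (c * z * c⁻¹) := by
      have hb := hnorm c⁻¹ hc.inv_left a haW
      rw [inv_inv] at hb
      have := (D.comm a z (c⁻¹ * a * c) ha3 haz.symm (hab _ hb a haW)).symm.map
        (MulAut.conj c).toMonoidHom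
      simpa [mul_assoc] using this
    have h2 := D.comm a _ _ ha3 haz.symm h1.symm
    exact ha1 (eq_one_of_sq (hodd a haW) (D.sq_eq_one_of_commute hz hz'
      (fun e => hne (eq_mul_inv_iff_mul_eq.1 e).symm) h2 haz h1))
  have hcx : ∀ c : K, Commute c x → c * c = 1 := fun c hc =>
    D.sq_eq_one_of_commute hx hz (Ne.symm hzx) (hPc x hxP' z hzP) hc (hcz c hc)
  obtain ⟨g, hg⟩ := isConj_iff.1 (D.conj x z hx hz)
  have h3 := hcx (g⁻¹ * a * g) (by
    have := haz.map (MulAut.conj g⁻¹).toMonoidHom
    rw [← hg] at this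
    simpa [mul_assoc] using this)
  exact ha1 (eq_one_of_sq (hodd a haW) (by
    calc a * a = g * (g⁻¹ * a * g * (g⁻¹ * a * g)) * g⁻¹ := by group
      _ = 1 := by rw [h3]; group))

end Cfsg.Agent.PSL2

namespace Cfsg.Agent.PSL2

open Involution

variable {K : Type*} [Group K] [Finite K]

theorem FourData.exists_involution (D : FourData K) : ∃ x : K, orderOf x = 2 := by
  haveI : Fact (Nat.Prime 2) := ⟨Nat.prime_two⟩
  obtain ⟨P⟩ := (inferInstance : Nonempty (Sylow 2 K))
  have h2 : 2 ∣ Nat.card K :=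
    (show 2 ∣ Nat.card (P : Subgroup K) by rw [(D.sylow P).card_four]; norm_num).trans
      (Subgroup.card_subgroup_dvd_card _)
  exact exists_prime_orderOf_dvd_card' 2 h2

/-- The odd normal subgroups are trivial. -/
theorem FourData.odd_normal (D : FourData K) {N : Subgroup K}
    (hodd : ∀ n ∈ N, Odd (orderOf n)) (hnorm : ∀ x : K, ∀ n ∈ N, x * n * x⁻¹ ∈ N) : N = ⊥ := by
  haveI : Fact (Nat.Prime 2) := ⟨Nat.prime_two⟩
  obtain ⟨x, hx⟩ := D.exists_involution
  classical
  rcases D.simple with h12 | ⟨hs, -⟩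
  · by_contra hN
    have hno : ¬ 2 ∣ Nat.card N := fun h => by
      obtain ⟨n, hn⟩ := exists_prime_orderOf_dvd_card' 2 h
      rw [← Subgroup.orderOf_coe] at hn
      exact absurd (hn ▸ hodd n n.2) (by decide)
    have h3 : Nat.card N = 3 := by
      have hd := Subgroup.card_subgroup_dvd_card N
      have hne : Nat.card N ≠ 1 := fun e => hN (Subgroup.card_eq_one.1 e)
      rw [h12] at hd
      have := Nat.le_of_dvd (by norm_num) hd
      interval_cases hc : Nat.card N <;> simp_all
    -- an involution centralises or inverts `N`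
    have key : ∀ z : K, orderOf z = 2 → ∀ n ∈ N, Commute z n := by
      intro z hz
      by_contra hc
      push Not at hc
      obtain ⟨n, hn, hzn⟩ := hc
      haveI : Fact (Nat.Prime 3) := ⟨Nat.prime_three⟩
      have hn1 : n ≠ 1 := fun e => hzn (e ▸ Commute.one_right z)
      have hgen : Subgroup.zpowers n = N := by
        refine Subgroup.eq_of_le_of_card_ge (Subgroup.zpowers_le.2 hn) ?_
        rw [h3, Nat.card_zpowers]
        have := orderOf_pos n
        have := hodd n hn
        rw [Nat.odd_iff] at this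
        have : orderOf n ≠ 1 := fun e => hn1 (orderOf_eq_one_iff.1 e)
        omega
      have hn3 : n ^ 3 = 1 := by
        have := congrArg Subtype.val (pow_card_eq_one' (x := (⟨n, hn⟩ : N)))
        rw [h3] at this
        simpa using this
      have hinv : z * n * z⁻¹ = n⁻¹ := by
        have hm : z * n * z⁻¹ ∈ N := hnorm z n hn
        rw [← hgen, mem_zpowers_iff_mem_range_orderOf] at hm
        obtain ⟨k, hk, e⟩ := Finset.mem_image.1 hm
        rw [Finset.mem_range] at hk
        have : orderOf n ≤ 3 := Nat.le_of_dvd (by norm_num) (orderOf_dvd_of_pow_eq_one hn3)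
        have hk3 : k < 3 := lt_of_lt_of_le hk this
        interval_cases k
        · rw [pow_zero, eq_comm, conj_eq_one_iff] at e
          exact absurd e hn1
        · rw [pow_one] at e
          exact absurd (mul_inv_eq_iff_eq_mul.1 e.symm) hzn
        · rw [← e]
          exact eq_inv_of_mul_eq_one_left (by rw [← pow_succ, hn3])
      refine hN (D.no_inverted hz hodd (fun w hw => ?_) fun c _ w hw => hnorm c w hw)
      rw [← hgen] at hw
      obtain ⟨k, rfl⟩ := hw
      exact inverts_zpow hinv k
    obtain ⟨n, hn, hn1⟩ := (N.bot_or_exists_ne_one).resolve_left hN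
    obtain ⟨P⟩ := (inferInstance : Nonempty (Sylow 2 K))
    have hnP := D.cent _ (D.sylow P) n fun v hv => by
      by_cases hv1 : v = 1
      · exact hv1 ▸ Commute.one_right n
      · exact (key v (orderOf_of_sq (D.sq_eq_one hv) hv1) n hn).symm
    exact hn1 (eq_one_of_sq (hodd n hn) (D.sq_eq_one hnP))
  · haveI := hs
    haveI : N.Normal := ⟨fun n hn g => hnorm g n hn⟩
    refine (‹N.Normal›.eq_bot_or_eq_top).resolve_right fun e => ?_
    exact absurd (hx ▸ hodd x (e ▸ Subgroup.mem_top x)) (by decide)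

end Cfsg.Agent.PSL2
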