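/-
An involution centraliser `⟨t⟩ × E`, `PSL_2(q) ≤ E ≤ Aut PSL_2(q)`, in a group with abelian Sylow
2-subgroups (owner: helper44).

Main results (namespace `Cfsg.Agent.AbelianTwoPSL`, `h : Ctx t E E₀`):
* `Ctx.of_statement`      : the context from the hypotheses as stated
* `Ctx.exists_four`       : a Sylow 2-subgroup through `t` is `⟨t⟩ × V`, `V` a four group of `E₀`
* `Ctx.exists_of_involution` : the involutions of the centraliser
* `Ctx.odd_normal_eq_bot` : no odd subgroup of the centraliser is normalised by `E₀`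
* `Ctx.inverted_eq_bot`   : no odd subgroup of the centraliser is inverted by a second involution
  and normalised by what commutes with it
-/
import Cfsg.Agent.Lib.AbelianTwoPSL.Data
import Cfsg.Agent.Lib.Fusion.SylowIn
import Cfsg.Prelude.Def_TwoFusion

set_option autoImplicit false
set_option linter.unusedSectionVars false

namespace Cfsg.Agent.AbelianTwoPSL

open Involution PSL2
open scoped Pointwise

variable {G : Type*} [Group G] [Finite G]

structure Ctx (t : G) (E E₀ : Subgroup G) : Prop where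
  ht : orderOf t = 2
  htE : t ∉ E
  comm : ∀ e ∈ E, Commute e t
  split : ∀ c : G, Commute c t → c ∈ E ∨ ∃ e ∈ E, c = t * e
  le : E₀ ≤ E
  norm : ∀ e ∈ E, ∀ x ∈ E₀, e * x * e⁻¹ ∈ E₀
  data : FourData E₀
  cent : ∀ e ∈ E, (∀ x ∈ E₀, Commute e x) → e = 1
  sylowComm : ∀ P : Sylow 2 G, ∀ a ∈ (P : Subgroup G), ∀ b ∈ (P : Subgroup G), Commute a b

theorem Ctx.of_statement {t : G} {E E₀ : Subgroup G} (S : Sylow 2 G)
    (hS : IsMulCommutative (S : Subgroup G)) (ht : orderOf t = 2)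
    (hprod : Cfsg.IsInternalDirectProduct (Subgroup.zpowers t) E
      (Subgroup.centralizer ({t} : Set G)))
    (hE₀E : E₀ ≤ E) (hE₀n : (E₀.subgroupOf E).Normal)
    (hE₀ : ∃ (F : Type) (_ : Field F) (_ : Fintype F), Odd (Fintype.card F) ∧
      Nonempty (E₀ ≃* Matrix.ProjectiveSpecialLinearGroup (Fin 2) F))
    (hCE : E ⊓ Subgroup.centralizer (E₀ : Set G) = ⊥) : Ctx t E E₀ := by
  haveI : Fact (Nat.Prime 2) := ⟨Nat.prime_two⟩
  obtain ⟨-, hEC, hcomm, hinf, hsup⟩ := hprod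
  have hcomm' : ∀ e ∈ E, Commute e t := fun e he => (hcomm t (Subgroup.mem_zpowers t) e he).symm
  have hsylow : ∀ P : Sylow 2 G, ∀ a ∈ (P : Subgroup G), ∀ b ∈ (P : Subgroup G), Commute a b := by
    intro P a ha b hb
    obtain ⟨g, rfl⟩ := MulAction.exists_smul_eq G S P
    change a ∈ MulAut.conj g • (S : Subgroup G) at ha
    change b ∈ MulAut.conj g • (S : Subgroup G) at hb
    rw [Coprime.mem_conj] at ha hb
    have h := (show Commute (⟨_, ha⟩ : (S : Subgroup G)) ⟨_, hb⟩ from hS.is_comm.comm _ _).map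
      ((MulAut.conj g).toMonoidHom.comp (S : Subgroup G).subtype)
    simpa [mul_assoc] using h
  refine ⟨ht, fun h => ne_one ht (Subgroup.mem_bot.1 (hinf ▸ ⟨Subgroup.mem_zpowers t, h⟩)), hcomm',
    fun c hc => ?_, hE₀E, fun e he x hx => ?_, ?_, fun e he h => ?_, hsylow⟩
  · have hmem : c ∈ Subgroup.zpowers t ⊔ E :=
      hsup ▸ Involution.mem_centralizer_iff_commute.2 hc
    let T : Subgroup G :=
      { carrier := {c | c ∈ E ∨ ∃ e ∈ E, c = t * e}
        one_mem' := Or.inl (one_mem E)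
        mul_mem' := by
          rintro a b (ha | ⟨a, ha, rfl⟩) (hb | ⟨b, hb, rfl⟩)
          · exact Or.inl (mul_mem ha hb)
          · exact Or.inr ⟨a * b, mul_mem ha hb, by rw [← mul_assoc, (hcomm' a ha).eq, mul_assoc]⟩
          · exact Or.inr ⟨a * b, mul_mem ha hb, by rw [mul_assoc]⟩
          · refine Or.inl ?_
            rw [mul_assoc, ← mul_assoc a, (hcomm' a ha).eq, ← mul_assoc, ← mul_assoc, mul_self ht,
              one_mul]
            exact mul_mem ha hb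
        inv_mem' := by
          rintro a (ha | ⟨a, ha, rfl⟩)
          · exact Or.inl (inv_mem ha)
          · exact Or.inr ⟨a⁻¹, inv_mem ha, by
              rw [mul_inv_rev, inv_eq ht, (hcomm' a ha).inv_left.eq]⟩ }
    have hle : Subgroup.zpowers t ⊔ E ≤ T :=
      sup_le (Subgroup.zpowers_le.2 (Or.inr ⟨1, one_mem E, (mul_one t).symm⟩)) fun e he => Or.inl he
    exact hle hmem
  · exact hE₀n.conj_mem ⟨x, hE₀E hx⟩ hx ⟨e, he⟩
  · obtain ⟨F, _, _, hodd, ⟨φ⟩⟩ := hE₀
    rw [← Nat.card_eq_fintype_card] at hodd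
    refine (fourData hodd fun P => ?_).of_equiv φ
    obtain ⟨Q, hQ⟩ := (P.2.map (E₀.subtype.comp φ.symm.toMonoidHom)).exists_le_sylow
    refine ⟨⟨fun a b => Subtype.ext (φ.symm.injective (Subtype.ext ?_))⟩⟩
    have h := hsylow Q _ (hQ ⟨a, a.2, rfl⟩) _ (hQ ⟨b, b.2, rfl⟩)
    simpa [map_mul] using h.eq
  · refine Subgroup.mem_bot.1 (hCE ▸ ⟨he, Subgroup.mem_centralizer_iff.2 fun x hx => ?_⟩)
    exact (h x hx).eq.symm

variable {t : G} {E E₀ : Subgroup G}

theorem Ctx.mul_self_t (h : Ctx t E E₀) : t * t = 1 := mul_self h.ht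

theorem Ctx.commute_of_mem (h : Ctx t E E₀) {x : G} (hx : x ∈ E₀) : Commute x t :=
  h.comm x (h.le hx)

/-- What commutes with `t` normalises `E₀`. -/
theorem Ctx.conj_mem (h : Ctx t E E₀) {c x : G} (hc : Commute c t) (hx : x ∈ E₀) :
    c * x * c⁻¹ ∈ E₀ := by
  rcases h.split c hc with he | ⟨e, he, rfl⟩
  · exact h.norm c he x hx
  · have e1 := h.norm e he x hx
    have e2 := h.commute_of_mem e1
    rw [show t * e * x * (t * e)⁻¹ = t * (e * x * e⁻¹) * t⁻¹ by group, ← e2.eq, mul_inv_cancel_right]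
    exact e1

theorem Ctx.mem_of_odd (h : Ctx t E E₀) {c : G} (hc : Commute c t) (hodd : Odd (orderOf c)) :
    c ∈ E := by
  rcases h.split c hc with he | ⟨e, he, rfl⟩
  · exact he
  · exfalso
    obtain ⟨j, hj⟩ := hodd
    have h1 : (t * e) ^ orderOf (t * e) = 1 := pow_orderOf_eq_one _
    rw [(h.comm e he).symm.mul_pow, hj, pow_succ t, pow_mul, sq, h.mul_self_t, one_pow, one_mul,
      mul_eq_one_iff_eq_inv] at h1
    exact h.htE (h1 ▸ inv_mem (pow_mem he _))

/-- An element of `E` fixing a four group of `E₀` pointwise lies in it, if it is a 2-element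
(or `q = 3`). -/
theorem Ctx.mem_four (h : Ctx t E E₀) {V : Subgroup G} (hV : V ≤ E₀)
    (hk : IsKleinFour (V.subgroupOf E₀)) {e : G} (he : e ∈ E) (hc : ∀ v ∈ V, Commute e v)
    (h2 : (∃ k : ℕ, e ^ (2 ^ k) = 1) ∨ Nat.card E₀ = 12) : e ∈ V := by
  let ψ : ↥(Subgroup.normalizer (E₀ : Set G)) →* MulAut E₀ := Subgroup.normalizerMonoidHom E₀
  have hn : e ∈ Subgroup.normalizer (E₀ : Set G) :=
    Coprime.mem_normalizer_of_forall (h.norm e he)
  have happ : ∀ (g : ↥(Subgroup.normalizer (E₀ : Set G))) (x : E₀),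
      ((ψ g x : E₀) : G) = (g : G) * x * (g : G)⁻¹ := fun g x => rfl
  obtain ⟨v, hv, hψ⟩ := h.data.aut _ hk (ψ ⟨e, hn⟩) (h2.imp_left fun ⟨k, hk2⟩ =>
      ⟨k, by rw [← map_pow, show (⟨e, hn⟩ : ↥(Subgroup.normalizer (E₀ : Set G))) ^ (2 ^ k) = 1 from
        Subtype.ext (by simpa using hk2), map_one]⟩)
    fun w hw => Subtype.ext (by
      rw [happ]
      show e * w * e⁻¹ = w
      rw [(hc (w : G) hw).eq, mul_inv_cancel_right])
  have hz : (v : G)⁻¹ * e = 1 := h.cent _ (mul_mem (inv_mem (h.le v.2)) he) fun x hx => by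
    have := congrArg Subtype.val (DFunLike.congr_fun hψ ⟨x, hx⟩)
    rw [happ] at this
    simp only [MulAut.conj_apply, Subgroup.coe_mul, Subgroup.coe_inv] at this
    show (v : G)⁻¹ * e * x = x * ((v : G)⁻¹ * e)
    calc (v : G)⁻¹ * e * x = (v : G)⁻¹ * (e * x * e⁻¹) * e := by group
      _ = _ := by rw [this]; group
  rw [inv_mul_eq_one] at hz
  exact hz ▸ hv

/-- A Sylow 2-subgroup through `t` is `⟨t⟩ × V`. -/
theorem Ctx.exists_four (h : Ctx t E E₀) :
    ∃ (A : Sylow 2 G) (V : Subgroup G), V = (A : Subgroup G) ⊓ E₀ ∧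
      IsKleinFour (V.subgroupOf E₀) ∧ t ∈ (A : Subgroup G) ∧
      (∀ a ∈ (A : Subgroup G), Commute a t ∧ (a ∈ V ∨ ∃ v ∈ V, a = t * v)) := by
  haveI : Fact (Nat.Prime 2) := ⟨Nat.prime_two⟩
  obtain ⟨A, hA⟩ := (IsPGroup.of_card (G := Subgroup.zpowers t) (p := 2) (n := 1)
    (by rw [Nat.card_zpowers, h.ht, pow_one])).exists_le_sylow
  have htA : t ∈ (A : Subgroup G) := hA (Subgroup.mem_zpowers t)
  have hAc : ∀ a ∈ (A : Subgroup G), Commute a t := fun a ha => h.sylowComm A a ha t htA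
  set C := Subgroup.centralizer ({t} : Set G)
  have hE₀C : E₀ ≤ C := fun x hx => Involution.mem_centralizer_iff_commute.2 (h.commute_of_mem hx)
  have hsyl : Fusion.IsSylowIn 2 (A : Subgroup G) C :=
    ⟨fun a ha => Involution.mem_centralizer_iff_commute.2 (hAc a ha), A.2,
      fun D hAD _ hD => A.3 hD hAD⟩
  have hV : Fusion.IsSylowIn 2 ((A : Subgroup G) ⊓ E₀) E₀ := hsyl.inf_normal hE₀C fun c hc x hx =>
    h.conj_mem (Involution.mem_centralizer_iff_commute.1 hc) hx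
  obtain ⟨R, hR⟩ := (Fusion.isSylowIn_iff_exists inf_le_right).1 hV
  have hk : IsKleinFour (((A : Subgroup G) ⊓ E₀).subgroupOf E₀) := hR ▸ h.data.sylow R
  refine ⟨A, _, rfl, hk, htA, fun a ha => ⟨hAc a ha, ?_⟩⟩
  have key : ∀ e ∈ E, e ∈ (A : Subgroup G) → e ∈ (A : Subgroup G) ⊓ E₀ := fun e he heA => by
    obtain ⟨k, hk2⟩ := IsPGroup.iff_card.1 A.2
    refine h.mem_four inf_le_right hk he (fun v hv => h.sylowComm A e heA v hv.1) (Or.inl ⟨k, ?_⟩)
    rw [← hk2]
    exact congrArg Subtype.val (pow_card_eq_one' (x := (⟨e, heA⟩ : (A : Subgroup G))))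
  rcases h.split a (hAc a ha) with he | ⟨e, he, rfl⟩
  · exact Or.inl (key a he ha)
  · exact Or.inr ⟨e, key e he ((Subgroup.mul_mem_cancel_left _ htA).1 ha), rfl⟩

/-- A 2-element of the centraliser is conjugate in it into a given Sylow 2-subgroup through `t`. -/
theorem Ctx.exists_conj_sylow (h : Ctx t E E₀) (A : Sylow 2 G) (htA : t ∈ (A : Subgroup G)) {u : G}
    (hu : orderOf u = 2) (huc : Commute u t) :
    ∃ c : G, Commute c t ∧ c * u * c⁻¹ ∈ (A : Subgroup G) := by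
  haveI : Fact (Nat.Prime 2) := ⟨Nat.prime_two⟩
  set C := Subgroup.centralizer ({t} : Set G)
  have hsyl : Fusion.IsSylowIn 2 (A : Subgroup G) C :=
    ⟨fun a ha => Involution.mem_centralizer_iff_commute.2 (h.sylowComm A a ha t htA), A.2,
      fun D hAD _ hD => A.3 hD hAD⟩
  obtain ⟨c, hc, hconj⟩ := hsyl.exists_conj_le
    (IsPGroup.of_card (G := Subgroup.zpowers u) (p := 2) (n := 1)
      (by rw [Nat.card_zpowers, hu, pow_one]))
    (Subgroup.zpowers_le.2 (Involution.mem_centralizer_iff_commute.2 huc))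
  exact ⟨c, Involution.mem_centralizer_iff_commute.1 hc, hconj u (Subgroup.mem_zpowers u)⟩

theorem Ctx.exists_of_involution (h : Ctx t E E₀) {u : G} (hu : orderOf u = 2)
    (huc : Commute u t) : u = t ∨ ∃ x ∈ E₀, orderOf x = 2 ∧ (u = x ∨ u = t * x) := by
  obtain ⟨A, V, hV, hk, htA, hA⟩ := h.exists_four
  obtain ⟨c, hc, hcA⟩ := h.exists_conj_sylow A htA hu huc
  have hback : ∀ v ∈ V, c⁻¹ * v * c ∈ E₀ := fun v hv => by
    have := h.conj_mem hc.inv_left (hV.le hv).2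
    rwa [inv_inv] at this
  have hord : ∀ v ∈ V, v ≠ 1 → orderOf (c⁻¹ * v * c) = 2 := fun v hv hv1 => by
    have e := orderOf_conj c⁻¹ v
    rw [inv_inv] at e
    rw [e]
    refine orderOf_of_sq ?_ hv1
    exact congrArg Subtype.val (congrArg Subtype.val
      (IsKleinFour.mul_self (⟨⟨v, (hV.le hv).2⟩, hv⟩ : V.subgroupOf E₀)) :)
  rcases (hA _ hcA).2 with hv | ⟨v, hv, e⟩
  · refine Or.inr ⟨_, hback _ hv, hord _ hv fun e => ne_one hu ?_, Or.inl (by group)⟩
    simpa using e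
  · by_cases hv1 : v = 1
    · left
      rw [hv1, mul_one, mul_inv_eq_iff_eq_mul] at e
      exact mul_left_cancel (e.trans hc.eq.symm)
    · refine Or.inr ⟨_, hback v hv, hord v hv hv1, Or.inr ?_⟩
      calc u = c⁻¹ * (c * u * c⁻¹) * c := by group
        _ = (c⁻¹ * t) * v * c := by rw [e]; group
        _ = t * (c⁻¹ * v * c) := by rw [hc.inv_left.eq]; group

/-- No odd subgroup of the centraliser is normalised by `E₀`. -/
theorem Ctx.odd_normal_eq_bot (h : Ctx t E E₀) {N : Subgroup G} (hN : ∀ n ∈ N, Commute n t)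
    (hodd : ∀ n ∈ N, Odd (orderOf n)) (hnorm : ∀ x ∈ E₀, ∀ n ∈ N, x * n * x⁻¹ ∈ N) : N = ⊥ := by
  have h0 : N.subgroupOf E₀ = ⊥ := h.data.odd_normal (fun n hn => by
      rw [← Subgroup.orderOf_coe]; exact hodd _ hn) fun x n hn => hnorm x x.2 n hn
  refine (Subgroup.eq_bot_iff_forall N).2 fun n hn => h.cent n (h.mem_of_odd (hN n hn) (hodd n hn))
    fun x hx => ?_
  have h1 : n * x * n⁻¹ * x⁻¹ ∈ E₀ := mul_mem (h.conj_mem (hN n hn) hx) (inv_mem hx)
  have h2 : n * x * n⁻¹ * x⁻¹ ∈ N := by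
    rw [show n * x * n⁻¹ * x⁻¹ = n * (x * n⁻¹ * x⁻¹) by group]
    exact mul_mem hn (hnorm x hx _ (inv_mem hn))
  have h3 : (⟨_, h1⟩ : E₀) ∈ N.subgroupOf E₀ := h2
  rw [h0, Subgroup.mem_bot] at h3
  exact mul_inv_eq_iff_eq_mul.1 (mul_inv_eq_one.1 (congrArg Subtype.val h3))

/-- No odd subgroup of the centraliser is inverted by a second involution and normalised by what
commutes with it. -/
theorem Ctx.inverted_eq_bot (h : Ctx t E E₀) {W : Subgroup G} {u : G} (hu : orderOf u = 2)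
    (huc : Commute u t) (hut : u ≠ t) (hW : ∀ w ∈ W, Commute w t)
    (hodd : ∀ w ∈ W, Odd (orderOf w)) (hinv : ∀ w ∈ W, u * w * u⁻¹ = w⁻¹)
    (hnorm : ∀ c : G, Commute c t → Commute c u → ∀ w ∈ W, c * w * c⁻¹ ∈ W) : W = ⊥ := by
  obtain ⟨x, hx, hx2, hux⟩ := (h.exists_of_involution hu huc).resolve_left hut
  have hxinv : ∀ w ∈ W, x * w * x⁻¹ = w⁻¹ := fun w hw => by
    rcases hux with rfl | rfl
    · exact hinv w hw
    · have e := hinv w hw
      have e2 : Commute (x * w * x⁻¹) t :=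
        ((h.commute_of_mem hx).mul_left (hW w hw)).mul_left (h.commute_of_mem hx).inv_left
      rwa [show t * x * w * (t * x)⁻¹ = t * (x * w * x⁻¹) * t⁻¹ by group, ← e2.eq,
        mul_inv_cancel_right] at e
  have hWE₀ : W ≤ E₀ := fun w hw => by
    have h1 : w * x * w⁻¹ * x⁻¹ ∈ E₀ := mul_mem (h.conj_mem (hW w hw) hx) (inv_mem hx)
    have h2 : w * x * w⁻¹ * x⁻¹ = w * w := by
      rw [show w * x * w⁻¹ * x⁻¹ = w * (x * w * x⁻¹)⁻¹ by group, hxinv w hw, inv_inv]
    rw [h2] at h1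
    obtain ⟨j, hj⟩ := hodd w hw
    have e : w = (w * w) ^ (j + 1) := by
      rw [← sq, ← pow_mul, show 2 * (j + 1) = orderOf w + 1 by omega, pow_succ, pow_orderOf_eq_one,
        one_mul]
    rw [e]
    exact pow_mem h1 _
  have h0 : W.subgroupOf E₀ = ⊥ := h.data.no_inverted (x := ⟨x, hx⟩)
    (by rw [← Subgroup.orderOf_coe]; exact hx2)
    (fun w hw => by rw [← Subgroup.orderOf_coe]; exact hodd _ hw)
    (fun w hw => Subtype.ext (hxinv _ hw))
    fun c hc w hw => hnorm c (h.commute_of_mem c.2) (by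
      have hcx : Commute (c : G) x := congrArg Subtype.val hc.eq
      rcases hux with rfl | rfl
      exacts [hcx, (h.commute_of_mem c.2).mul_right hcx]) w hw
  refine (Subgroup.eq_bot_iff_forall W).2 fun w hw => ?_
  have hmem : (⟨w, hWE₀ hw⟩ : E₀) ∈ W.subgroupOf E₀ := hw
  rw [h0, Subgroup.mem_bot] at hmem
  exact congrArg Subtype.val hmem

end Cfsg.Agent.AbelianTwoPSL
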