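/-
Fusion in a Sylow 2-subgroup `⟨t⟩ × V` (owner: helper44).

Main results (namespace `Cfsg.Agent.AbelianTwoPSL`, `f : Frame t E E₀ A V`):
* `Frame.fixed_or_transitive` : in an overgroup `M` of the centraliser of `t`, the normaliser of `A`
  fixes `t` or is transitive on the involutions of `A`
* `Frame.isolated`            : in the first case `t` is isolated in `M`
* `Frame.conjugate`           : all involutions of `A` are conjugate to `t` in a simple group
* `Frame.card_eight`          : `A` has order eight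
-/
import Cfsg.Agent.Lib.AbelianTwoPSL.Centralizer
import Cfsg.Agent.Lib.ZStar.Apply
import Cfsg.Agent.Lib.SmallOrders.Basic

set_option autoImplicit false
set_option linter.unusedSectionVars false

namespace Cfsg.Agent.AbelianTwoPSL

open Involution PSL2

variable {G : Type*} [Group G] [Finite G] {t : G} {E E₀ : Subgroup G}

structure Frame (t : G) (E E₀ : Subgroup G) (A : Sylow 2 G) (V : Subgroup G) : Prop
    extends Ctx t E E₀ where
  vdef : V = (A : Subgroup G) ⊓ E₀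
  four : IsKleinFour (V.subgroupOf E₀)
  htA : t ∈ (A : Subgroup G)
  mem : ∀ a ∈ (A : Subgroup G), Commute a t ∧ (a ∈ V ∨ ∃ v ∈ V, a = t * v)

theorem Ctx.exists_frame (h : Ctx t E E₀) : ∃ A V, Frame t E E₀ A V := by
  obtain ⟨A, V, h1, h2, h3, h4⟩ := h.exists_four
  exact ⟨A, V, ⟨h, h1, h2, h3, h4⟩⟩

variable {A : Sylow 2 G} {V : Subgroup G}

theorem Frame.memA (f : Frame t E E₀ A V) {v : G} (hv : v ∈ V) : v ∈ (A : Subgroup G) :=
  (f.vdef.le hv).1

theorem Frame.memE₀ (f : Frame t E E₀ A V) {v : G} (hv : v ∈ V) : v ∈ E₀ := (f.vdef.le hv).2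

theorem Frame.commute_V (f : Frame t E E₀ A V) {v : G} (hv : v ∈ V) : Commute v t :=
  f.commute_of_mem (f.memE₀ hv)

theorem Frame.sq_V (f : Frame t E E₀ A V) {v : G} (hv : v ∈ V) : v * v = 1 := by
  haveI := f.four
  exact congrArg Subtype.val (congrArg Subtype.val
    (IsKleinFour.mul_self (⟨⟨v, f.memE₀ hv⟩, hv⟩ : V.subgroupOf E₀)) :)

theorem Frame.orderOf_V (f : Frame t E E₀ A V) {v : G} (hv : v ∈ V) (h1 : v ≠ 1) : orderOf v = 2 :=
  orderOf_of_sq (f.sq_V hv) h1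

theorem Frame.sq_A (f : Frame t E E₀ A V) {a : G} (ha : a ∈ (A : Subgroup G)) : a * a = 1 := by
  rcases (f.mem a ha).2 with hv | ⟨v, hv, rfl⟩
  · exact f.sq_V hv
  · rw [show t * v * (t * v) = t * (v * t) * v by group, (f.commute_V hv).eq, ← mul_assoc,
      mul_self f.ht, one_mul, f.sq_V hv]

theorem Frame.card_V (f : Frame t E E₀ A V) : Nat.card V = 4 := by
  rw [← f.four.card_four]
  exact (Nat.card_congr (Subgroup.subgroupOfEquivOfLe fun v hv => f.memE₀ hv).toEquiv).symm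

theorem Frame.t_not_mem (f : Frame t E E₀ A V) : t ∉ V := fun h => f.htE (f.le (f.memE₀ h))

theorem Frame.mul_not_mem (f : Frame t E E₀ A V) {v : G} (hv : v ∈ V) : t * v ∉ V := fun h =>
  f.t_not_mem ((Subgroup.mul_mem_cancel_right _ hv).1 h)

theorem Frame.four_le_normalizer (f : Frame t E E₀ A V) {n : G} (hn : n ∈ E₀)
    (hnV : ∀ v ∈ V, n * v * n⁻¹ ∈ V) : n ∈ Subgroup.normalizer ((A : Subgroup G) : Set G) := by
  refine Coprime.mem_normalizer_of_forall fun a ha => ?_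
  rcases (f.mem a ha).2 with hv | ⟨v, hv, rfl⟩
  · exact f.memA (hnV a hv)
  · rw [show n * (t * v) * n⁻¹ = n * t * n⁻¹ * (n * v * n⁻¹) by group, (f.commute_of_mem hn).eq,
      mul_inv_cancel_right]
    exact mul_mem f.htA (f.memA (hnV v hv))

/-- The involutions of `V` are conjugate under `E₀ ∩ N(A)`. -/
theorem Frame.exists_normalizer (f : Frame t E E₀ A V) {u w : G} (hu : u ∈ V) (hu1 : u ≠ 1)
    (hw : w ∈ V) (hw1 : w ≠ 1) :
    ∃ n ∈ E₀, n ∈ Subgroup.normalizer ((A : Subgroup G) : Set G) ∧ n * u * n⁻¹ = w := by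
  haveI : Fact (Nat.Prime 2) := ⟨Nat.prime_two⟩
  haveI := f.four
  obtain ⟨P, hP⟩ := (IsPGroup.of_card (G := V.subgroupOf E₀) (p := 2) (n := 2)
    (by rw [IsKleinFour.card_four]; norm_num)).exists_le_sylow
  have hPV : (P : Subgroup E₀) = V.subgroupOf E₀ :=
    (Subgroup.eq_of_le_of_card_ge hP (by rw [(f.data.sylow P).card_four, IsKleinFour.card_four])).symm
  haveI : IsMulCommutative (P : Subgroup E₀) := by
    haveI := f.data.sylow P
    exact ⟨⟨mul_comm_of_exponent_two IsKleinFour.exponent_two⟩⟩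
  have ho : ∀ x (hx : x ∈ V), x ≠ 1 → orderOf (⟨x, f.memE₀ hx⟩ : E₀) = 2 := fun x hx h1 => by
    rw [← Subgroup.orderOf_coe]; exact f.orderOf_V hx h1
  obtain ⟨g, hg⟩ := isConj_iff.1 (f.data.conj _ _ (ho u hu hu1) (ho w hw hw1))
  obtain ⟨n, hn, he⟩ := P.conj_eq_normalizer_conj_of_mem (⟨u, f.memE₀ hu⟩ : E₀) g⁻¹
    (hPV.ge hu) (by rw [inv_inv, hg]; exact hPV.ge hw)
  rw [inv_inv, hg] at he
  refine ⟨(n⁻¹ : E₀), (n⁻¹).2, f.four_le_normalizer (n⁻¹).2 fun v hv => ?_, ?_⟩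
  · have hm := (Subgroup.mem_normalizer_iff.1 (inv_mem hn) ⟨v, f.memE₀ hv⟩).1 (hPV.ge hv)
    exact hPV.le hm
  · have := congrArg Subtype.val he
    simpa using this.symm

theorem Frame.ncard_sdiff (f : Frame t E E₀ A V) : ((V : Set G) \ {1}).ncard = 3 := by
  rw [Set.ncard_diff_singleton_of_mem (one_mem V), ← Nat.card_coe_set_eq]
  show Nat.card V - 1 = 3
  rw [f.card_V]

/-- `N_M(A)` fixes `t` or is transitive on the involutions of `A`. -/
theorem Frame.fixed_or_transitive (f : Frame t E E₀ A V) {M : Subgroup G}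
    (hM : ∀ c, Commute c t → c ∈ M) :
    (∀ n ∈ M, n ∈ Subgroup.normalizer ((A : Subgroup G) : Set G) → n * t * n⁻¹ = t) ∨
      (∀ a ∈ (A : Subgroup G), a ≠ 1 → ∃ n ∈ M,
        n ∈ Subgroup.normalizer ((A : Subgroup G) : Set G) ∧ n * t * n⁻¹ = a) := by
  classical
  haveI : Fact (Nat.Prime 2) := ⟨Nat.prime_two⟩
  set N := M ⊓ Subgroup.normalizer ((A : Subgroup G) : Set G) with hN
  letI : MulAction N G := MulAction.compHom G (ConjAct.toConjAct.toMonoidHom.comp N.subtype)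
  have hsmul : ∀ (n : N) (x : G), n • x = (n : G) * x * (n : G)⁻¹ := fun n x => by
    show ConjAct.toConjAct (n : G) • x = _
    rw [ConjAct.toConjAct_smul]
  set Ω := MulAction.orbit N t with hΩ
  have hmemΩ : ∀ {x}, x ∈ Ω → ∀ n ∈ E₀, n ∈ Subgroup.normalizer ((A : Subgroup G) : Set G) →
      n * x * n⁻¹ ∈ Ω := by
    intro x hx n hn hnA
    have := MulAction.mem_orbit_of_mem_orbit (⟨n, hM n (f.commute_of_mem hn), hnA⟩ : N) hx
    rwa [hsmul] at this
  have hΩA : ∀ x ∈ Ω, x ∈ (A : Subgroup G) ∧ x ≠ 1 := by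
    rintro x ⟨n, rfl⟩
    simp only [hsmul]
    refine ⟨(Subgroup.mem_normalizer_iff.1 n.2.2 t).1 f.htA, fun e => ne_one f.ht ?_⟩
    exact conj_eq_one_iff.1 e
  have hodd : Odd Ω.ncard := by
    rw [← MulAction.index_stabilizer N t]
    have hle : (A : Subgroup G) ≤ N := fun a ha =>
      ⟨hM a (f.mem a ha).1, Subgroup.le_normalizer ha⟩
    have hsub : (A : Subgroup G).subgroupOf N ≤ MulAction.stabilizer N t := fun a ha => by
      rw [MulAction.mem_stabilizer_iff, hsmul, (f.mem (a : G) ha).1.eq, mul_inv_cancel_right]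
    have h1 := Subgroup.index_dvd_of_le hsub
    have h2 : ((A : Subgroup G).subgroupOf N).index ∣ (A : Subgroup G).index :=
      Dvd.intro _ (Subgroup.relIndex_mul_index hle)
    exact Nat.odd_iff.2 (Nat.two_dvd_ne_zero.1 fun hd => A.not_dvd_index (hd.trans (h1.trans h2)))
  by_cases hall : ∀ n ∈ M, n ∈ Subgroup.normalizer ((A : Subgroup G) : Set G) → n * t * n⁻¹ = t
  · exact Or.inl hall
  right
  push Not at hall
  obtain ⟨m, hm, hmA, hmt⟩ := hall
  have hmΩ : m * t * m⁻¹ ∈ Ω := ⟨(⟨m, hm, hmA⟩ : N), hsmul _ _⟩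
  -- the orbit is a union of `{t}`, `V#` and `t V#`
  set R := (V : Set G) \ {1} with hR
  have hR1 : ∀ x ∈ Ω, x ∈ R → R ⊆ Ω := fun x hx hxR w hw => by
    obtain ⟨n, hn, hnA, rfl⟩ := f.exists_normalizer hxR.1 hxR.2 hw.1 hw.2
    exact hmemΩ hx n hn hnA
  have hR2 : ∀ v, v ∈ R → t * v ∈ Ω → (fun w => t * w) '' R ⊆ Ω := by
    rintro v hv hx _ ⟨w, hw, rfl⟩
    obtain ⟨n, hn, hnA, rfl⟩ := f.exists_normalizer hv.1 hv.2 hw.1 hw.2
    have := hmemΩ hx n hn hnA
    rwa [show n * (t * v) * n⁻¹ = n * t * n⁻¹ * (n * v * n⁻¹) by group, (f.commute_of_mem hn).eq,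
      mul_inv_cancel_right] at this
  have hcases : ∀ x ∈ Ω, x = t ∨ x ∈ R ∨ x ∈ (fun w => t * w) '' R := fun x hx => by
    obtain ⟨hxA, hx1⟩ := hΩA x hx
    rcases (f.mem x hxA).2 with hv | ⟨v, hv, rfl⟩
    · exact Or.inr (Or.inl ⟨hv, hx1⟩)
    · by_cases hv1 : v = 1
      · exact Or.inl (by rw [hv1, mul_one])
      · exact Or.inr (Or.inr ⟨v, ⟨hv, hv1⟩, rfl⟩)
  have htΩ : t ∈ Ω := MulAction.mem_orbit_self t
  have ht1 : t ∉ R := fun h => f.t_not_mem h.1
  have ht2 : t ∉ (fun w => t * w) '' R := by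
    rintro ⟨w, hw, e⟩
    exact hw.2 (mul_eq_left.1 e)
  have hboth : R ⊆ Ω ∧ (fun w => t * w) '' R ⊆ Ω := by
    by_cases h1 : R ⊆ Ω <;> by_cases h2 : (fun w => t * w) '' R ⊆ Ω
    · exact ⟨h1, h2⟩
    · exfalso
      have he : Ω = insert t R := by
        refine Set.Subset.antisymm (fun x hx => ?_) (Set.insert_subset htΩ h1)
        rcases hcases x hx with e | e | ⟨v, hv, rfl⟩
        exacts [Or.inl e, Or.inr e, absurd (hR2 v hv hx) h2]
      rw [he, Set.ncard_insert_of_notMem ht1, f.ncard_sdiff] at hodd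
      exact absurd hodd (by decide)
    · exfalso
      have he : Ω = insert t ((fun w => t * w) '' R) := by
        refine Set.Subset.antisymm (fun x hx => ?_) (Set.insert_subset htΩ h2)
        rcases hcases x hx with e | e | e
        exacts [Or.inl e, absurd (hR1 x hx e) h1, Or.inr e]
      rw [he, Set.ncard_insert_of_notMem ht2, Set.ncard_image_of_injective _ (mul_right_injective t),
        f.ncard_sdiff] at hodd
      exact absurd hodd (by decide)
    · exfalso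
      rcases hcases _ hmΩ with e | e | ⟨v, hv, e⟩
      exacts [hmt e, h1 (hR1 _ hmΩ e), h2 (hR2 v hv (by rw [show t * v = _ from e]; exact hmΩ))]
  intro a ha ha1
  have haΩ : a ∈ Ω := by
    rcases (f.mem a ha).2 with hv | ⟨v, hv, rfl⟩
    · exact hboth.1 ⟨hv, ha1⟩
    · by_cases hv1 : v = 1
      · rw [hv1, mul_one]; exact htΩ
      · exact hboth.2 ⟨v, ⟨hv, hv1⟩, rfl⟩
  obtain ⟨n, hn⟩ := haΩ
  exact ⟨n, n.2.1, n.2.2, (hsmul n t).symm.trans hn⟩

/-- If `N_M(A)` fixes `t` then `t` is isolated in `M`. -/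
theorem Frame.isolated (f : Frame t E E₀ A V) {M : Subgroup G} (hM : ∀ c, Commute c t → c ∈ M)
    (hfix : ∀ n ∈ M, n ∈ Subgroup.normalizer ((A : Subgroup G) : Set G) → n * t * n⁻¹ = t) :
    Cfsg.IsIsolatedInvolution (⟨t, hM t (Commute.refl t)⟩ : M) := by
  haveI : Fact (Nat.Prime 2) := ⟨Nat.prime_two⟩
  refine ⟨by rw [← Subgroup.orderOf_coe]; exact f.ht, fun g hc => Subtype.ext ?_⟩
  have hc' : Commute ((g : G) * t * (g : G)⁻¹) t := (congrArg Subtype.val hc.eq).symm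
  obtain ⟨c, hct, hcA⟩ := f.exists_conj_sylow A f.htA ((orderOf_conj (g : G) t).trans f.ht) hc'
  have hAM : (A : Subgroup G) ≤ M := fun a ha => hM a (f.mem a ha).1
  let P : Sylow 2 M := A.subtype hAM
  haveI : IsMulCommutative (P : Subgroup M) :=
    ⟨⟨fun a b => Subtype.ext (Subtype.ext (f.sylowComm A _ a.2 _ b.2).eq)⟩⟩
  obtain ⟨n, hn, he⟩ := P.conj_eq_normalizer_conj_of_mem
    (⟨t, hM t (Commute.refl t)⟩ : M) (⟨c, hM c hct⟩ * g)⁻¹ f.htA (by
      show ((⟨c, hM c hct⟩ : M) * g)⁻¹⁻¹ * _ * ((⟨c, hM c hct⟩ : M) * g)⁻¹ ∈ (P : Subgroup M)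
      rw [inv_inv]
      show c * (g : G) * t * (c * (g : G))⁻¹ ∈ (A : Subgroup G)
      rw [show c * (g : G) * t * (c * (g : G))⁻¹ = c * ((g : G) * t * (g : G)⁻¹) * c⁻¹ by group]
      exact hcA)
  have hnA : ((n⁻¹ : M) : G) ∈ Subgroup.normalizer ((A : Subgroup G) : Set G) :=
    Coprime.mem_normalizer_of_forall fun a ha =>
      (Subgroup.mem_normalizer_iff.1 (inv_mem hn) ⟨a, hAM ha⟩).1 ha
  have h2 := hfix _ (n⁻¹).2 hnA
  rw [Subgroup.coe_inv, inv_inv] at h2
  have h3 := congrArg Subtype.val he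
  simp only [inv_inv, Subgroup.coe_mul, Subgroup.coe_inv] at h3
  rw [h2, show c * (g : G) * t * (c * (g : G))⁻¹ = c * ((g : G) * t * (g : G)⁻¹) * c⁻¹ by group,
    mul_inv_eq_iff_eq_mul, ← hct.eq] at h3
  exact mul_left_cancel h3

/-- `Z*` in the isolated case. -/
theorem Frame.mem_core (f : Frame t E E₀ A V) {M : Subgroup G} (hM : ∀ c, Commute c t → c ∈ M)
    (hfix : ∀ n ∈ M, n ∈ Subgroup.normalizer ((A : Subgroup G) : Set G) → n * t * n⁻¹ = t)
    {g : G} (hg : g ∈ M) :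
    t * g * t⁻¹ * g⁻¹ ∈ (Cfsg.pPrimeCore 2 M).map M.subtype := by
  exact ⟨_, ZStar.zStar_of_brauerSuzuki ZStar.uniqueInvolution (f.isolated hM hfix) ⟨g, hg⟩, rfl⟩

/-- All involutions of `A` are conjugate in a non-abelian simple group. -/
theorem Frame.conjugate (f : Frame t E E₀ A V) [IsSimpleGroup G] (hna : ¬ IsMulCommutative G)
    {a : G} (ha : a ∈ (A : Subgroup G)) (ha1 : a ≠ 1) : ∃ g : G, g * t * g⁻¹ = a := by
  rcases f.fixed_or_transitive (M := ⊤) fun c _ => Subgroup.mem_top c with h | h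
  · exfalso
    haveI : Fact (Nat.Prime 2) := ⟨Nat.prime_two⟩
    have hcen : t ∈ Subgroup.center G := by
      refine Subgroup.mem_center_iff.2 fun g => ?_
      obtain ⟨x, hx, e⟩ := f.mem_core (fun c _ => Subgroup.mem_top c) h (Subgroup.mem_top g)
      haveI := Cores.pPrimeCore_normal 2 (⊤ : Subgroup G)
      haveI : ((Cfsg.pPrimeCore 2 (⊤ : Subgroup G)).map (⊤ : Subgroup G).subtype).Normal :=
        Subgroup.Normal.map inferInstance _ fun z => ⟨⟨z, Subgroup.mem_top z⟩, rfl⟩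
      rcases (inferInstance : ((Cfsg.pPrimeCore 2 (⊤ : Subgroup G)).map
        (⊤ : Subgroup G).subtype).Normal).eq_bot_or_eq_top with hb | ht
      · have : t * g * t⁻¹ * g⁻¹ = 1 := Subgroup.mem_bot.1 (hb ▸ ⟨x, hx, e⟩)
        rw [mul_inv_eq_one, mul_inv_eq_iff_eq_mul] at this
        exact this.symm
      · exfalso
        obtain ⟨y, hy, hyt⟩ := ht.ge (Subgroup.mem_top t)
        have hcop := Cores.coprime_card_pPrimeCore (G := (⊤ : Subgroup G)) 2
        have hd : 2 ∣ Nat.card (Cfsg.pPrimeCore 2 (⊤ : Subgroup G)) := by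
          have h2 : orderOf (⟨y, hy⟩ : Cfsg.pPrimeCore 2 (⊤ : Subgroup G)) = 2 := by
            rw [← Subgroup.orderOf_coe, ← Subgroup.orderOf_coe, show ((y : (⊤ : Subgroup G)) : G) = t
              from hyt]
            exact f.ht
          have h3 := orderOf_dvd_natCard (⟨y, hy⟩ : Cfsg.pPrimeCore 2 (⊤ : Subgroup G))
          rwa [h2] at h3
        exact Nat.prime_two.coprime_iff_not_dvd.1 hcop.symm hd
    rw [SmallOrders.center_eq_bot hna, Subgroup.mem_bot] at hcen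
    exact ne_one f.ht hcen
  · obtain ⟨n, -, -, e⟩ := h a ha ha1
    exact ⟨n, e⟩

theorem Frame.card_eight (f : Frame t E E₀ A V) : Nat.card (A : Subgroup G) = 8 := by
  have he : ((A : Subgroup G) : Set G) = (V : Set G) ∪ (fun w => t * w) '' (V : Set G) := by
    ext a
    refine ⟨fun ha => ?_, ?_⟩
    · rcases (f.mem a ha).2 with hv | ⟨v, hv, rfl⟩
      exacts [Or.inl hv, Or.inr ⟨v, hv, rfl⟩]
    · rintro (ha | ⟨v, hv, rfl⟩)
      exacts [f.memA ha, mul_mem f.htA (f.memA hv)]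
  have hV : (V : Set G).ncard = 4 := (Nat.card_coe_set_eq _).symm.trans f.card_V
  show Nat.card ((A : Subgroup G) : Set G) = 8
  rw [Nat.card_coe_set_eq, he, Set.ncard_union_eq ?_ (Set.toFinite _) (Set.toFinite _),
    Set.ncard_image_of_injective _ (mul_right_injective t), hV]
  rw [Set.disjoint_left]
  rintro _ ha ⟨v, hv, rfl⟩
  exact f.mul_not_mem hv ha

end Cfsg.Agent.AbelianTwoPSL
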