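/-
The centraliser `⟨t⟩ × E` is maximal (S1245, owner: helper44).

Main results (namespace `Cfsg.Agent.AbelianTwoPSL`):
* `Frame.core_inf`        : the odd core of an overgroup meets the centraliser trivially
* `Frame.le_centralizer`  : no proper overgroup in which `t` is isolated
* `Frame.stronglyEmbedded`: a transitive proper overgroup is strongly embedded
* `Frame.card_twelve`     : then `E₀` has order twelve
-/
import Cfsg.Agent.Lib.AbelianTwoPSL.Fusion
import Cfsg.Agent.Lib.Coprime.Generation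
import Cfsg.Agent.Lib.PronSymp.Block
import Cfsg.Agent.Lib.Bender.FreeCase
import Cfsg.Agent.S0223

set_option autoImplicit false
set_option linter.unusedSectionVars false

namespace Cfsg.Agent.AbelianTwoPSL

open Involution PSL2
open scoped Pointwise

universe u

variable {G : Type u} [Group G] [Finite G] {t : G} {E E₀ : Subgroup G}
variable {A : Sylow 2 G} {V : Subgroup G}

/-- The odd core of a subgroup, in the ambient group. -/
def oddIn (M : Subgroup G) : Subgroup G := (Cfsg.pPrimeCore 2 M).map M.subtype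

theorem oddIn_le (M : Subgroup G) : oddIn M ≤ M := Subgroup.map_subtype_le _

theorem odd_card_oddIn (M : Subgroup G) : Odd (Nat.card (oddIn M)) := by
  haveI : Fact (Nat.Prime 2) := ⟨Nat.prime_two⟩
  rw [oddIn, Subgroup.card_map_of_injective M.subtype_injective]
  exact Nat.coprime_two_right.1 (Cores.coprime_card_pPrimeCore (G := M) 2)

theorem odd_of_mem_oddIn {M : Subgroup G} {x : G} (hx : x ∈ oddIn M) : Odd (orderOf x) := by
  have h := orderOf_dvd_natCard (⟨x, hx⟩ : oddIn M)
  rw [← Subgroup.orderOf_coe] at h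
  exact Odd.of_dvd_nat (odd_card_oddIn M) h

theorem conj_mem_oddIn {M : Subgroup G} {g x : G} (hg : g ∈ M) (hx : x ∈ oddIn M) :
    g * x * g⁻¹ ∈ oddIn M := by
  haveI : Fact (Nat.Prime 2) := ⟨Nat.prime_two⟩
  haveI := Cores.pPrimeCore_normal 2 (↥M)
  obtain ⟨y, hy, rfl⟩ := hx
  exact ⟨⟨g, hg⟩ * y * ⟨g, hg⟩⁻¹, Subgroup.Normal.conj_mem inferInstance y hy _, rfl⟩

/-- The odd core of an overgroup meets the centraliser of `t` trivially. -/
theorem Frame.core_inf (f : Frame t E E₀ A V) {M : Subgroup G} (hM : ∀ c, Commute c t → c ∈ M)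
    {w : G} (hw : w ∈ oddIn M) (hwt : Commute w t) : w = 1 := by
  have h := f.odd_normal_eq_bot (N := oddIn M ⊓ Subgroup.centralizer ({t} : Set G))
    (fun n hn => Involution.mem_centralizer_iff_commute.1 hn.2)
    (fun n hn => odd_of_mem_oddIn hn.1)
    fun x hx n hn => ⟨conj_mem_oddIn (hM x (f.commute_of_mem hx)) hn.1,
      Involution.mem_centralizer_iff_commute.2 (((f.commute_of_mem hx).mul_left
        (Involution.mem_centralizer_iff_commute.1 hn.2)).mul_left (f.commute_of_mem hx).inv_left)⟩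
  exact Subgroup.mem_bot.1 (h ▸ ⟨hw, Involution.mem_centralizer_iff_commute.2 hwt⟩)

/-- The odd core vanishes if the involutions of `V` act without fixed points on it. -/
theorem Frame.core_eq_bot (f : Frame t E E₀ A V) {M : Subgroup G} (hM : ∀ c, Commute c t → c ∈ M)
    (hfix : ∀ v ∈ V, v ≠ 1 → ∀ w ∈ oddIn M, Commute w v → w = 1) : oddIn M = ⊥ := by
  haveI := f.four
  haveI : IsMulCommutative V := ⟨⟨fun a b =>
    Subtype.ext (f.sylowComm A _ (f.memA a.2) _ (f.memA b.2)).eq⟩⟩
  have hnc : ¬ IsCyclic V := fun h => by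
    haveI := h
    obtain ⟨g, hg⟩ := IsCyclic.exists_ofOrder_eq_natCard (α := V)
    rw [f.card_V] at hg
    have h2 : orderOf g ∣ 2 :=
      orderOf_dvd_of_pow_eq_one (Subtype.ext (by rw [sq]; exact f.sq_V g.2))
    rw [hg] at h2
    exact absurd h2 (by decide)
  refine le_bot_iff.1 (Coprime.le_of_noncyclic hnc (fun v hv =>
    Coprime.mem_normalizer_of_forall fun x hx => conj_mem_oddIn (hM v (f.commute_V hv)) hx)
    ?_ fun v hv hv1 w hw => Subgroup.mem_bot.2
      (hfix v hv hv1 w hw.1 (Involution.mem_centralizer_iff_commute.1 hw.2)))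
  rw [f.card_V, show (4 : ℕ) = 2 ^ 2 by norm_num]
  exact (Nat.coprime_two_left.2 (odd_card_oddIn M)).pow_left 2

/-- An overgroup in which `N(A)` fixes `t` is the centraliser. -/
theorem Frame.le_centralizer (f : Frame t E E₀ A V) [IsSimpleGroup G] (hna : ¬ IsMulCommutative G)
    {M : Subgroup G} (hM : ∀ c, Commute c t → c ∈ M)
    (hfix : ∀ n ∈ M, n ∈ Subgroup.normalizer ((A : Subgroup G) : Set G) → n * t * n⁻¹ = t)
    {m : G} (hm : m ∈ M) : Commute m t := by
  have hbot : oddIn M = ⊥ := by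
    refine f.core_eq_bot hM fun v hv hv1 => ?_
    obtain ⟨g, hg⟩ := f.conjugate hna (f.memA hv) hv1
    set u := g⁻¹ * t * g with hu
    -- `W` is the fixed point group of `v`, carried into the centraliser of `t`
    set W := (oddIn M ⊓ Subgroup.centralizer ({v} : Set G)).map (MulAut.conj g⁻¹).toMonoidHom
    have hvu : Commute u t := by
      have := (f.commute_V hv).symm.map (MulAut.conj g⁻¹).toMonoidHom
      rw [← hg] at this
      simpa [hu, mul_assoc] using this
    have hut : u ≠ t := fun e => f.t_not_mem (by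
      have : g * u * g⁻¹ = g * t * g⁻¹ := by rw [e]
      rw [hg, hu] at this
      rw [show t = v by rw [← this]; group]
      exact hv)
    have hinv : ∀ w ∈ oddIn M ⊓ Subgroup.centralizer ({v} : Set G), t * w * t = w⁻¹ := by
      refine PronSymp.inverts_of_fixedPointFree _ (mul_self f.ht) (fun w hw => ⟨?_, ?_⟩)
        fun w hw hc => f.core_inf hM hw.1 hc
      · have := conj_mem_oddIn (hM t (Commute.refl t)) hw.1
        rwa [inv_eq f.ht] at this
      · exact Involution.mem_centralizer_iff_commute.2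
          (((f.commute_V hv).symm.mul_left (Involution.mem_centralizer_iff_commute.1 hw.2)).mul_left
            (f.commute_V hv).symm)
    have hW := f.inverted_eq_bot (W := W) (u := u)
      (by have := orderOf_conj g⁻¹ t; rw [inv_inv] at this; rw [hu, this, f.ht]) hvu hut
      (by
        rintro _ ⟨w, hw, rfl⟩
        have := (Involution.mem_centralizer_iff_commute.1 hw.2).map (MulAut.conj g⁻¹).toMonoidHom
        rw [← hg] at this
        simpa [mul_assoc] using this)
      (by
        rintro _ ⟨w, hw, rfl⟩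
        rw [MulEquiv.toMonoidHom_eq_coe, MonoidHom.coe_coe, MulAut.conj_apply, orderOf_conj]
        exact odd_of_mem_oddIn hw.1)
      (by
        rintro _ ⟨w, hw, rfl⟩
        simp only [MulEquiv.toMonoidHom_eq_coe, MonoidHom.coe_coe, MulAut.conj_apply, inv_inv]
        rw [hu, show g⁻¹ * t * g * (g⁻¹ * w * g) * (g⁻¹ * t * g)⁻¹ = g⁻¹ * (t * w * t⁻¹) * g by group,
          inv_eq f.ht, hinv w hw]
        group)
      (by
        rintro c hct hcu _ ⟨w, hw, rfl⟩
        have hc1 : Commute (g * c * g⁻¹) t := by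
          have := hcu.map (MulAut.conj g).toMonoidHom
          simpa [hu, mul_assoc] using this
        have hc2 : Commute (g * c * g⁻¹) v := by
          have := hct.map (MulAut.conj g).toMonoidHom
          rw [← hg]
          simpa using this
        refine ⟨(g * c * g⁻¹) * w * (g * c * g⁻¹)⁻¹, ⟨conj_mem_oddIn (hM _ hc1) hw.1,
          Involution.mem_centralizer_iff_commute.2 ((hc2.mul_left
            (Involution.mem_centralizer_iff_commute.1 hw.2)).mul_left hc2.inv_left)⟩, ?_⟩
        simp only [MulEquiv.toMonoidHom_eq_coe, MonoidHom.coe_coe, MulAut.conj_apply, inv_inv]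
        group)
    intro w hw hwv
    have hmem : (MulAut.conj g⁻¹).toMonoidHom w ∈ W :=
      ⟨w, ⟨hw, Involution.mem_centralizer_iff_commute.2 hwv⟩, rfl⟩
    rw [hW, Subgroup.mem_bot] at hmem
    exact (MulAut.conj g⁻¹).injective (hmem.trans (map_one (MulAut.conj g⁻¹)).symm)
  have h : t * m * t⁻¹ * m⁻¹ ∈ oddIn M := f.mem_core hM hfix hm
  rw [hbot, Subgroup.mem_bot, mul_inv_eq_one, mul_inv_eq_iff_eq_mul] at h
  exact h.symm

/-- A transitive proper overgroup has one class of involutions. -/
theorem Frame.exists_conj_of_involution (f : Frame t E E₀ A V) {M : Subgroup G}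
    (hM : ∀ c, Commute c t → c ∈ M)
    (htr : ∀ a ∈ (A : Subgroup G), a ≠ 1 → ∃ n ∈ M,
      n ∈ Subgroup.normalizer ((A : Subgroup G) : Set G) ∧ n * t * n⁻¹ = a)
    {s : G} (hs : s ∈ M) (hs2 : orderOf s = 2) : ∃ n ∈ M, n * t * n⁻¹ = s := by
  haveI : Fact (Nat.Prime 2) := ⟨Nat.prime_two⟩
  have hAM : (A : Subgroup G) ≤ M := fun a ha => hM a (f.mem a ha).1
  obtain ⟨P, hP⟩ := ((IsPGroup.of_card (G := Subgroup.zpowers s) (p := 2) (n := 1)
    (by rw [Nat.card_zpowers, hs2, pow_one])).comap_of_injective M.subtype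
      M.subtype_injective).exists_le_sylow
  obtain ⟨m, hm⟩ := MulAction.exists_smul_eq M (A.subtype hAM) P
  have hsP : (⟨s, hs⟩ : M) ∈ (P : Subgroup M) := hP (Subgroup.mem_zpowers s)
  rw [← hm] at hsP
  change (⟨s, hs⟩ : M) ∈ MulAut.conj m • ((A.subtype hAM : Sylow 2 M) : Subgroup M) at hsP
  rw [Coprime.mem_conj] at hsP
  have hsA : (m : G)⁻¹ * s * m ∈ (A : Subgroup G) := hsP
  have hne : (m : G)⁻¹ * s * m ≠ 1 := fun e => ne_one hs2 (by
    calc s = (m : G) * ((m : G)⁻¹ * s * m) * (m : G)⁻¹ := by group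
      _ = 1 := by rw [e]; group)
  obtain ⟨n, hn, -, e⟩ := htr _ hsA hne
  exact ⟨m * n, mul_mem m.2 hn, by
    rw [show (m : G) * n * t * ((m : G) * n)⁻¹ = (m : G) * (n * t * n⁻¹) * (m : G)⁻¹ by group, e]
    group⟩

/-- A transitive proper overgroup is strongly embedded. -/
theorem Frame.stronglyEmbedded (f : Frame t E E₀ A V) {M : Subgroup G}
    (hM : ∀ c, Commute c t → c ∈ M) (hne : M ≠ ⊤)
    (htr : ∀ a ∈ (A : Subgroup G), a ≠ 1 → ∃ n ∈ M,
      n ∈ Subgroup.normalizer ((A : Subgroup G) : Set G) ∧ n * t * n⁻¹ = a) :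
    Cfsg.IsStronglyEmbedded M := by
  have heven : Even (Nat.card M) := by
    refine even_iff_two_dvd.2 ?_
    have h2 : orderOf (⟨t, hM t (Commute.refl t)⟩ : M) = 2 := by
      rw [← Subgroup.orderOf_coe]; exact f.ht
    exact h2 ▸ orderOf_dvd_natCard _
  refine (Cfsg.Agent.S0223.result M hne heven).2 ⟨fun s hs hs2 c hc => ?_,
    fun s hs r hr hs2 hr2 _ => ?_⟩
  · obtain ⟨n, hn, rfl⟩ := f.exists_conj_of_involution hM htr hs hs2
    have hc' := (Involution.mem_centralizer_iff_commute.1 hc).map (MulAut.conj n⁻¹).toMonoidHom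
    have h := hM (n⁻¹ * c * n) (by simpa [mul_assoc] using hc')
    have h2 := mul_mem (mul_mem hn h) (inv_mem hn)
    simpa [mul_assoc] using h2
  · obtain ⟨n, hn, rfl⟩ := f.exists_conj_of_involution hM htr hs hs2
    obtain ⟨k, hk, rfl⟩ := f.exists_conj_of_involution hM htr hr hr2
    exact ⟨k * n⁻¹, mul_mem hk (inv_mem hn), by group⟩

/-- The involutions of `E₀` commute, so it has order twelve. -/
theorem Frame.card_twelve (f : Frame t E E₀ A V) {M : Subgroup G}
    (hM : ∀ c, Commute c t → c ∈ M) (hSE : Cfsg.IsStronglyEmbedded M) :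
    Nat.card E₀ = 12 := by
  refine (f.data.simple).resolve_right fun ⟨hs, hnc⟩ => hnc ?_
  have hE₀M : ∀ x ∈ E₀, x ∈ M := fun x hx => hM x (f.commute_of_mem hx)
  have hcomm : ∀ x y : E₀, orderOf x = 2 → orderOf y = 2 → Commute x y := by
    intro x y hx hy
    rw [← Subgroup.orderOf_coe] at hx hy
    have h := Bender.coreTwo hSE ⟨x, hE₀M x x.2⟩ ⟨y, hE₀M y y.2⟩ hx hy
    have h2 : (x : G) * y * (x : G)⁻¹ * (y : G)⁻¹ = 1 := by
      refine f.core_inf hM (M := M) ⟨_, h, rfl⟩ ?_
      exact (((f.commute_of_mem x.2).mul_left (f.commute_of_mem y.2)).mul_left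
        (f.commute_of_mem x.2).inv_left).mul_left (f.commute_of_mem y.2).inv_left
    rw [mul_inv_eq_one, mul_inv_eq_iff_eq_mul] at h2
    exact Subtype.ext h2
  obtain ⟨x, hx⟩ := f.data.exists_involution
  set S : Set E₀ := {y | orderOf y = 2}
  haveI := hs
  haveI hn : (Subgroup.closure S).Normal := by
    refine ⟨fun a ha g => ?_⟩
    have hle : Subgroup.closure S ≤ (Subgroup.closure S).comap (MulAut.conj g).toMonoidHom :=
      (Subgroup.closure_le _).2 fun y hy => Subgroup.subset_closure
        (show orderOf (g * y * g⁻¹) = 2 from (orderOf_conj g y).trans hy)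
    exact hle ha
  have htop : Subgroup.closure S = ⊤ := hn.eq_bot_or_eq_top.resolve_left fun e =>
    ne_one hx (Subgroup.mem_bot.1 (e ▸ Subgroup.subset_closure (show x ∈ S from hx)))
  have hcent : ∀ y, orderOf y = 2 → y ∈ Subgroup.center E₀ := fun y hy => by
    refine Subgroup.mem_center_iff.2 fun g => ?_
    have hle : Subgroup.closure S ≤ Subgroup.centralizer {y} :=
      (Subgroup.closure_le _).2 fun z hz =>
        Involution.mem_centralizer_iff_commute.2 (hcomm z y hz hy)
    exact Involution.mem_centralizer_iff_commute.1 (hle (htop ▸ Subgroup.mem_top g))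
  intro a b
  rcases (inferInstance : (Subgroup.center E₀).Normal).eq_bot_or_eq_top with e | e
  · exact absurd (Subgroup.mem_bot.1 (e ▸ hcent x hx)) (ne_one hx)
  · exact (Subgroup.mem_center_iff.1 (e ▸ Subgroup.mem_top b) a)

end Cfsg.Agent.AbelianTwoPSL
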