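/-
The case `q = 3` of S1245: no strongly embedded overgroup of `⟨t⟩ × A₄` (owner: helper44).

Main results (namespace `Cfsg.Agent.AbelianTwoPSL`):
* `Frame.card_centralizer` : the centraliser has order 24
* `Frame.card_overgroup`   : a strongly embedded overgroup has order 168
* `Frame.not_stronglyEmbedded` : there is none, as the index would be 9 or 25
-/
import Cfsg.Agent.Lib.AbelianTwoPSL.Maximal
import Cfsg.Agent.Lib.SmallOrders.Orders.Between
import Cfsg.Agent.Lib.SmallOrders.Orders.Below6232
import Cfsg.Agent.S1220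
import Cfsg.Agent.S1225

set_option autoImplicit false
set_option linter.unusedSectionVars false

namespace Cfsg.Agent.AbelianTwoPSL

open Involution PSL2
open scoped Pointwise

universe u

variable {G : Type u} [Group G] [Finite G] {t : G} {E E₀ : Subgroup G}
variable {A : Sylow 2 G} {V : Subgroup G} {M : Subgroup G}

/-- The involutions of `E₀` lie in `V`. -/
theorem Frame.mem_V_of_involution (f : Frame t E E₀ A V) (hM : ∀ c, Commute c t → c ∈ M)
    (hSE : Cfsg.IsStronglyEmbedded M) {x : G} (hx : x ∈ E₀) (hx2 : orderOf x = 2) : x ∈ V := by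
  refine f.data.cent _ f.four ⟨x, hx⟩ fun v hv => ?_
  by_cases hv1 : v = 1
  · exact hv1 ▸ Commute.one_right _
  have hv2 : orderOf (v : G) = 2 := f.orderOf_V hv fun e => hv1 (Subtype.ext e)
  have h := Bender.coreTwo hSE ⟨x, hM x (f.commute_of_mem hx)⟩
    ⟨v, hM v (f.commute_of_mem v.2)⟩ hx2 hv2
  have h2 : x * v * x⁻¹ * (v : G)⁻¹ = 1 := by
    refine f.core_inf hM (M := M) ⟨_, h, rfl⟩ ?_
    exact (((f.commute_of_mem hx).mul_left (f.commute_of_mem v.2)).mul_left
      (f.commute_of_mem hx).inv_left).mul_left (f.commute_of_mem v.2).inv_left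
  rw [mul_inv_eq_one, mul_inv_eq_iff_eq_mul] at h2
  exact Subtype.ext h2

theorem Frame.card_centralizer (f : Frame t E E₀ A V) (hM : ∀ c, Commute c t → c ∈ M)
    (hSE : Cfsg.IsStronglyEmbedded M) :
    Nat.card (Subgroup.centralizer ({t} : Set G)) = 24 := by
  classical
  have h12 := f.card_twelve hM hSE
  -- `E` permutes the three involutions of `E₀`
  let J := {x : E₀ // orderOf (x : G) = 2}
  have hconj : ∀ e ∈ E, ∀ x : J, e * (x : G) * e⁻¹ ∈ E₀ ∧ orderOf (e * (x : G) * e⁻¹) = 2 :=
    fun e he x => ⟨f.norm e he _ x.1.2, (orderOf_conj e _).trans x.2⟩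
  let ρ : E →* Equiv.Perm J := {
    toFun := fun e =>
      { toFun := fun x => ⟨⟨_, (hconj e e.2 x).1⟩, (hconj e e.2 x).2⟩
        invFun := fun x => ⟨⟨_, (hconj (e : G)⁻¹ (inv_mem e.2) x).1⟩,
          (hconj (e : G)⁻¹ (inv_mem e.2) x).2⟩
        left_inv := fun x => Subtype.ext (Subtype.ext (by
          show (e : G)⁻¹ * ((e : G) * x * (e : G)⁻¹) * (e : G)⁻¹⁻¹ = x
          group))
        right_inv := fun x => Subtype.ext (Subtype.ext (by
          show (e : G) * ((e : G)⁻¹ * x * (e : G)⁻¹⁻¹) * (e : G)⁻¹ = x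
          group)) }
    map_one' := Equiv.ext fun x => Subtype.ext (Subtype.ext (by simp))
    map_mul' := fun a b => Equiv.ext fun x => Subtype.ext (Subtype.ext (by
      show (a : G) * b * x * ((a : G) * b)⁻¹ = (a : G) * ((b : G) * x * (b : G)⁻¹) * (a : G)⁻¹
      group)) }
  have hJ : Nat.card J = 3 := by
    rw [Nat.card_congr (show J ≃ ↥((V : Set G) \ {1}) from
      { toFun := fun x => ⟨x.1.1, f.mem_V_of_involution hM hSE x.1.2 x.2,
          fun e => ne_one x.2 e⟩
        invFun := fun x => ⟨⟨x.1, f.memE₀ x.2.1⟩, f.orderOf_V x.2.1 x.2.2⟩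
        left_inv := fun x => rfl
        right_inv := fun x => rfl }), Nat.card_coe_set_eq, f.ncard_sdiff]
  have hker : Nat.card ρ.ker ∣ 4 := by
    rw [← f.card_V, ← Nat.card_congr (Subgroup.subgroupOfEquivOfLe
      (show V ≤ E from fun v hv => f.le (f.memE₀ hv))).toEquiv]
    refine Subgroup.card_dvd_of_le fun e he => f.mem_four (fun v hv => f.memE₀ hv) f.four e.2
      (fun v hv => ?_) (Or.inr h12)
    by_cases hv1 : v = 1
    · exact hv1 ▸ Commute.one_right _
    have h := Equiv.Perm.ext_iff.1 (MonoidHom.mem_ker.1 he) ⟨⟨v, f.memE₀ hv⟩, f.orderOf_V hv hv1⟩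
    exact mul_inv_eq_iff_eq_mul.1 (congrArg (fun z : J => (z : G)) h)
  have h24 : Nat.card E ∣ 24 := by
    have hr : Nat.card ρ.range ∣ 6 := by
      have := Subgroup.card_subgroup_dvd_card ρ.range
      rwa [Nat.card_perm, hJ] at this
    rw [Subgroup.card_eq_card_quotient_mul_card_subgroup ρ.ker,
      Nat.card_congr (QuotientGroup.quotientKerEquivRange ρ).toEquiv]
    exact mul_dvd_mul hr hker
  have h12E : 12 ∣ Nat.card E := h12 ▸ Subgroup.card_dvd_of_le f.le
  have hC : Nat.card (Subgroup.centralizer ({t} : Set G)) = 2 * Nat.card E := by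
    have hEC : ∀ e ∈ E, e ∈ Subgroup.centralizer ({t} : Set G) := fun e he =>
      Involution.mem_centralizer_iff_commute.2 (f.comm e he)
    have htC : t ∈ Subgroup.centralizer ({t} : Set G) :=
      Involution.mem_centralizer_iff_commute.2 (Commute.refl t)
    have e : Bool × E ≃ Subgroup.centralizer ({t} : Set G) := Equiv.ofBijective
      (fun p => if p.1 then ⟨t * p.2, mul_mem htC (hEC _ p.2.2)⟩ else ⟨p.2, hEC _ p.2.2⟩) (by
      constructor
      · rintro ⟨a, x⟩ ⟨b, y⟩ h
        have h' := congrArg Subtype.val h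
        cases a <;> cases b <;> simp at h'
        · exact Prod.ext rfl h'
        · exact absurd ((Subgroup.mul_mem_cancel_right _ y.2).1 (h' ▸ x.2)) f.htE
        · exact absurd ((Subgroup.mul_mem_cancel_right _ x.2).1 (h'.symm ▸ y.2)) f.htE
        · exact Prod.ext rfl h'
      · rintro ⟨c, hc⟩
        rcases f.split c (Involution.mem_centralizer_iff_commute.1 hc) with he | ⟨e, he, rfl⟩
        · exact ⟨(false, ⟨c, he⟩), by simp⟩
        · exact ⟨(true, ⟨e, he⟩), by simp⟩)
    rw [← Nat.card_congr e, Nat.card_prod, Nat.card_eq_fintype_card, Fintype.card_bool]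
  have h16 : ¬ 16 ∣ Nat.card (Subgroup.centralizer ({t} : Set G)) := by
    intro h
    haveI : Fact (Nat.Prime 2) := ⟨Nat.prime_two⟩
    have hi := (A : Subgroup G).card_mul_index
    rw [f.card_eight] at hi
    have hG : 16 ∣ Nat.card G := h.trans (Subgroup.card_subgroup_dvd_card _)
    rw [← hi] at hG
    exact A.not_dvd_index (Nat.dvd_of_mul_dvd_mul_left (k := 8) (by norm_num) hG)
  rw [hC] at h16 ⊢
  have := Nat.le_of_dvd (by norm_num) h24
  omega

/-- The involutions of `M` are those of `A`. -/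
theorem Frame.mem_A_of_involution (f : Frame t E E₀ A V) (hM : ∀ c, Commute c t → c ∈ M)
    (htr : ∀ a ∈ (A : Subgroup G), a ≠ 1 → ∃ n ∈ M,
      n ∈ Subgroup.normalizer ((A : Subgroup G) : Set G) ∧ n * t * n⁻¹ = a)
    (hSE : Cfsg.IsStronglyEmbedded M) {s : G} (hs : s ∈ M) (hs2 : orderOf s = 2) :
    s ∈ (A : Subgroup G) := by
  have hbot : oddIn M = ⊥ := by
    refine f.core_eq_bot hM fun v hv hv1 w hw hwv => ?_
    obtain ⟨n, hn, -, e⟩ := htr v (f.memA hv) hv1
    have h1 : n⁻¹ * w * n ∈ oddIn M := by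
      have := conj_mem_oddIn (inv_mem hn) hw
      rwa [inv_inv] at this
    have h2 : Commute (n⁻¹ * w * n) t := by
      have := hwv.map (MulAut.conj n⁻¹).toMonoidHom
      rw [← e] at this
      simpa [mul_assoc] using this
    have := f.core_inf hM h1 h2
    calc w = n * (n⁻¹ * w * n) * n⁻¹ := by group
      _ = 1 := by rw [this]; group
  have hc : Commute s t := by
    have h := Bender.coreTwo hSE ⟨s, hs⟩ ⟨t, hM t (Commute.refl t)⟩ hs2 f.ht
    have h2 : s * t * s⁻¹ * t⁻¹ ∈ oddIn M := ⟨_, h, rfl⟩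
    rw [hbot, Subgroup.mem_bot, mul_inv_eq_one, mul_inv_eq_iff_eq_mul] at h2
    exact h2
  rcases f.exists_of_involution hs2 hc with rfl | ⟨x, hx, hx2, rfl | rfl⟩
  · exact f.htA
  · exact f.memA (f.mem_V_of_involution hM hSE hx hx2)
  · exact mul_mem f.htA (f.memA (f.mem_V_of_involution hM hSE hx hx2))

theorem Frame.ncard_involutions (f : Frame t E E₀ A V) :
    (((A : Subgroup G) : Set G) \ {1}).ncard = 7 := by
  rw [Set.ncard_diff_singleton_of_mem (one_mem (A : Subgroup G)), ← Nat.card_coe_set_eq]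
  show Nat.card (A : Subgroup G) - 1 = 7
  rw [f.card_eight]

theorem Frame.card_overgroup (f : Frame t E E₀ A V) (hM : ∀ c, Commute c t → c ∈ M)
    (htr : ∀ a ∈ (A : Subgroup G), a ≠ 1 → ∃ n ∈ M,
      n ∈ Subgroup.normalizer ((A : Subgroup G) : Set G) ∧ n * t * n⁻¹ = a)
    (hSE : Cfsg.IsStronglyEmbedded M) : Nat.card M = 168 := by
  letI : MulAction M G := MulAction.compHom G (ConjAct.toConjAct.toMonoidHom.comp M.subtype)
  have hsmul : ∀ (n : M) (x : G), n • x = (n : G) * x * (n : G)⁻¹ := fun n x => by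
    show ConjAct.toConjAct (n : G) • x = _
    rw [ConjAct.toConjAct_smul]
  have horb : MulAction.orbit M t = ((A : Subgroup G) : Set G) \ {1} := by
    ext a
    constructor
    · rintro ⟨n, rfl⟩
      simp only [hsmul]
      have h2 : orderOf ((n : G) * t * (n : G)⁻¹) = 2 := (orderOf_conj _ t).trans f.ht
      exact ⟨f.mem_A_of_involution hM htr hSE
        (mul_mem (mul_mem n.2 (hM t (Commute.refl t))) (inv_mem n.2)) h2, ne_one h2⟩
    · rintro ⟨ha, ha1⟩
      obtain ⟨n, hn, -, e⟩ := htr a ha ha1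
      exact ⟨⟨n, hn⟩, (hsmul _ _).trans e⟩
  have hstab : MulAction.stabilizer M t =
      (Subgroup.centralizer ({t} : Set G)).subgroupOf M := by
    ext n
    rw [MulAction.mem_stabilizer_iff, hsmul, Subgroup.mem_subgroupOf,
      Involution.mem_centralizer_singleton, mul_inv_eq_iff_eq_mul]
  have h := Subgroup.card_mul_index (MulAction.stabilizer M t)
  rw [MulAction.index_stabilizer, horb, f.ncard_involutions, hstab,
    Nat.card_congr (Subgroup.subgroupOfEquivOfLe fun c hc =>
      hM c (Involution.mem_centralizer_iff_commute.1 hc)).toEquiv,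
    f.card_centralizer hM hSE] at h
  omega

/-- The Sylow 2-subgroups are neither cyclic nor quaternion. -/
theorem Frame.not_cyclic (f : Frame t E E₀ A V) :
    ¬ (IsCyclic A ∨ ∃ m : ℕ, 1 ≤ m ∧ Nonempty ((A : Subgroup G) ≃* QuaternionGroup (2 ^ m))) := by
  rintro (h | ⟨m, hm, ⟨e⟩⟩)
  · haveI : IsCyclic (A : Subgroup G) := h
    obtain ⟨g, hg⟩ := IsCyclic.exists_ofOrder_eq_natCard (α := (A : Subgroup G))
    rw [f.card_eight] at hg
    have h2 : orderOf g ∣ 2 :=
      orderOf_dvd_of_pow_eq_one (Subtype.ext (by rw [sq]; exact f.sq_A g.2))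
    rw [hg] at h2
    exact absurd h2 (by decide)
  · have hsq : ∀ q : QuaternionGroup (2 ^ m), q * q = 1 := fun q => e.symm.injective (by
      rw [map_mul, map_one]
      exact Subtype.ext (f.sq_A (e.symm q).2))
    haveI : NeZero (2 ^ m) := ⟨by positivity⟩
    have h4 := QuaternionGroup.orderOf_xa (n := 2 ^ m) 0
    have h2 := orderOf_dvd_of_pow_eq_one (by rw [sq]; exact hsq (QuaternionGroup.xa 0) :
      (QuaternionGroup.xa 0 : QuaternionGroup (2 ^ m)) ^ 2 = 1)
    rw [h4] at h2
    exact absurd h2 (by decide)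

theorem Frame.not_stronglyEmbedded (f : Frame t E E₀ A V) [IsSimpleGroup G]
    (hna : ¬ IsMulCommutative G) (hM : ∀ c, Commute c t → c ∈ M)
    (htr : ∀ a ∈ (A : Subgroup G), a ≠ 1 → ∃ n ∈ M,
      n ∈ Subgroup.normalizer ((A : Subgroup G) : Set G) ∧ n * t * n⁻¹ = a) :
    ¬ Cfsg.IsStronglyEmbedded M := by
  intro hSE
  have h168 := f.card_overgroup hM htr hSE
  -- an involution outside `M`
  obtain ⟨g, hg⟩ : ∃ g : G, g * t * g⁻¹ ∉ M := by
    by_contra! hall
    have hcore : t ∈ M.normalCore := fun g => hall g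
    rw [SmallOrders.normalCore_eq_bot hSE.1, Subgroup.mem_bot] at hcore
    exact ne_one f.ht hcore
  set u := g * t * g⁻¹
  have hu : orderOf u = 2 := (orderOf_conj g t).trans f.ht
  set D := M ⊓ M.map (MulAut.conj u).toMonoidHom with hD
  have hmapD : ∀ {d : G}, d ∈ M.map (MulAut.conj u).toMonoidHom ↔ u⁻¹ * d * u ∈ M := fun {d} => by
    constructor
    · rintro ⟨y, hy, rfl⟩
      simpa [mul_assoc] using hy
    · exact fun h => ⟨_, h, by simp [mul_assoc]⟩
  -- `D` is transitive on the seven involutions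
  have h7 : 7 ∣ Nat.card D := by
    letI : MulAction D G := MulAction.compHom G (ConjAct.toConjAct.toMonoidHom.comp D.subtype)
    have hsmul : ∀ (n : D) (x : G), n • x = (n : G) * x * (n : G)⁻¹ := fun n x => by
      show ConjAct.toConjAct (n : G) • x = _
      rw [ConjAct.toConjAct_smul]
    have horb : MulAction.orbit D t = ((A : Subgroup G) : Set G) \ {1} := by
      ext a
      constructor
      · rintro ⟨n, rfl⟩
        simp only [hsmul]
        have h2 : orderOf ((n : G) * t * (n : G)⁻¹) = 2 := (orderOf_conj _ t).trans f.ht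
        exact ⟨f.mem_A_of_involution hM htr hSE
          (mul_mem (mul_mem n.2.1 (hM t (Commute.refl t))) (inv_mem n.2.1)) h2, ne_one h2⟩
      · rintro ⟨ha, ha1⟩
        obtain ⟨⟨d, hd, e⟩, -⟩ := Cfsg.Agent.S1225.result M hSE u hu hg t a f.ht
          (hM t (Commute.refl t)) (orderOf_of_sq (f.sq_A ha) ha1) (hM a (f.mem a ha).1)
        exact ⟨⟨d, hd⟩, (hsmul _ _).trans e⟩
    have := (MulAction.stabilizer D t).index_dvd_card
    rwa [MulAction.index_stabilizer, horb, f.ncard_involutions] at this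
  -- `D` has odd order
  have hodd : ¬ 2 ∣ Nat.card D := by
    intro h
    haveI : Fact (Nat.Prime 2) := ⟨Nat.prime_two⟩
    obtain ⟨d, hd⟩ := exists_prime_orderOf_dvd_card' 2 h
    rw [← Subgroup.orderOf_coe] at hd
    refine hg ?_
    have h1 := (Involution.isStronglyEmbedded_iff_forall.1 hSE).2.2 u⁻¹ d hd d.2.1
      (by rw [inv_inv]; exact hmapD.1 d.2.2)
    simpa using h1
  -- the points other than the base point
  have hidx : (M.index - 1) * Nat.card D = 168 := by
    set o : G ⧸ M := ((1 : G) : G ⧸ M)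
    have htrans := (Cfsg.Agent.S1220.result M hSE).resolve_right
      fun h => f.not_cyclic (h.1 A)
    have horb : MulAction.orbit M (u • o) = Set.univ \ {o} := by
      ext z
      induction z using QuotientGroup.induction_on with
      | _ g' =>
        have ho : ∀ g : G, g • o = (g : G ⧸ M) := fun g => by
          rw [show o = ((1 : G) : G ⧸ M) from rfl, MulAction.Quotient.smul_mk, smul_eq_mul, mul_one]
        constructor
        · rintro ⟨m, hm⟩
          refine ⟨trivial, fun e => hg ?_⟩
          have e2 : (m : G) • u • o = o := hm.trans (Set.mem_singleton_iff.1 e)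
          rw [← mul_smul, Bender.smul_one_eq] at e2
          exact (Subgroup.mul_mem_cancel_left M m.2).1 e2
        · rintro ⟨-, hne⟩
          have hg' : g' ∉ M := fun h => hne (QuotientGroup.eq.2 (by simpa using inv_mem h))
          obtain ⟨h, hh, he⟩ := htrans u g' hg hg'
          refine ⟨⟨h, hh⟩, ?_⟩
          show h • u • o = _
          rw [← mul_smul, ho, QuotientGroup.eq]
          simpa using inv_mem he
    have hstab : MulAction.stabilizer M (u • o) = D.subgroupOf M := by
      ext m
      rw [MulAction.mem_stabilizer_iff, Subgroup.mem_subgroupOf, hD, Subgroup.mem_inf, hmapD]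
      have key : (m : G) • u • o = u • o ↔ u⁻¹ * m * u ∈ M := by
        rw [← Bender.smul_one_eq (H := M), mul_smul (u⁻¹ * (m : G)) u, mul_smul u⁻¹ (m : G),
          inv_smul_eq_iff]
      exact ⟨fun e => ⟨m.2, key.1 e⟩, fun e => key.2 e.2⟩
    have h := Subgroup.index_mul_card (MulAction.stabilizer M (u • o))
    rw [MulAction.index_stabilizer, horb, hstab, h168,
      Nat.card_congr (Subgroup.subgroupOfEquivOfLe (show D ≤ M from inf_le_left)).toEquiv,
      Set.ncard_diff_singleton_of_mem (Set.mem_univ _), Set.ncard_univ] at h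
    exact h
  -- the two orders
  have hG : Nat.card G = 168 * M.index := by rw [← h168, Subgroup.card_mul_index]
  have hcases : Nat.card D = 7 ∨ Nat.card D = 21 := by
    have hdvd : Nat.card D ∣ 168 := Dvd.intro_left _ hidx
    have := Nat.le_of_dvd (by norm_num) hdvd
    obtain ⟨k, hk⟩ := h7
    rw [hk] at hdvd this hodd ⊢
    have : k ≤ 24 := by omega
    interval_cases k <;> simp_all
  rcases hcases with h | h <;> rw [h] at hidx
  · have hn : M.index = 25 := by omega
    rw [hn] at hG
    rcases SmallOrders.Below6232.mem_orders hna (by omega) (by omega) with h | h | h | h <;> omega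
  · have hn : M.index = 9 := by omega
    rw [hn] at hG
    rcases SmallOrders.Between.mem_orders hna (by omega) (by omega) with h | h | h <;> omega

end Cfsg.Agent.AbelianTwoPSL
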